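import Cfsg.Agent.ThCover66.Final

/-!
The multiplier of the presented Thompson group from finiteness and simplicity.
-/

set_option autoImplicit false

namespace CfsgLib.ThCover66

theorem rep_injective_of_simple (hs : IsSimpleGroup Cfsg.Spor.Th) :
    Function.Injective ThRep32.rep := by
  rw [← MonoidHom.ker_eq_bot_iff]
  rcases hs.eq_bot_or_eq_top_of_normal ThRep32.rep.ker inferInstance with h | h
  · exact h
  · exact absurd (MonoidHom.ker_eq_top_iff.1 h) ThRep32.rep_ne_one

theorem multiplier_of_simple [Finite Cfsg.Spor.Th] (hs : IsSimpleGroup Cfsg.Spor.Th) :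
    Cfsg.HasCyclicSchurMultiplier Cfsg.Spor.Th 1 :=
  multiplier_trivial (rep_injective_of_simple hs)

end CfsgLib.ThCover66
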