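import Cfsg.Agent.CosetEnum.Upper

/-!
The relators of the presented Thompson group as words in sixteen letters
`a a⁻¹ b b⁻¹ c c⁻¹ d d⁻¹ e e⁻¹ s s⁻¹ t t⁻¹ u u⁻¹`, numbered from zero.
-/

set_option autoImplicit false

namespace CfsgLib.ThCover66

/-- relator -/
def r_a2 : List ℕ := [0, 0]
/-- relator -/
def r_b2 : List ℕ := [2, 2]
/-- relator -/
def r_c2 : List ℕ := [4, 4]
/-- relator -/
def r_d2 : List ℕ := [6, 6]
/-- relator -/
def r_e2 : List ℕ := [8, 8]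
/-- relator -/
def r_ab3 : List ℕ := [0, 2, 0, 2, 0, 2]
/-- relator -/
def r_ae2 : List ℕ := [0, 8, 0, 8]
/-- relator -/
def r_bc3 : List ℕ := [2, 4, 2, 4, 2, 4]
/-- relator -/
def r_bd2 : List ℕ := [2, 6, 2, 6]
/-- relator -/
def r_be2 : List ℕ := [2, 8, 2, 8]
/-- relator -/
def r_acd4 : List ℕ := [0, 7, 5, 7, 5, 7, 5, 7, 5]
/-- relator -/
def r_ce2 : List ℕ := [4, 8, 4, 8]
/-- relator -/
def r_de3 : List ℕ := [6, 8, 6, 8, 6, 8]
/-- relator -/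
def r_bcde8 : List ℕ := [2, 4, 6, 8, 2, 4, 6, 8, 2, 4, 6, 8, 2, 4, 6, 8, 2, 4, 6, 8, 2, 4, 6, 8, 2, 4, 6, 8, 2, 4, 6, 8]
/-- relator -/
def r_s7 : List ℕ := [10, 10, 10, 10, 10, 10, 10]
/-- relator -/
def r_sa : List ℕ := [11, 1, 10, 0]
/-- relator -/
def r_sb : List ℕ := [11, 3, 10, 2]
/-- relator -/
def r_sc : List ℕ := [11, 5, 10, 4]
/-- relator -/
def r_sd2 : List ℕ := [10, 6, 10, 6]
/-- relator -/
def r_es : List ℕ := [9, 11, 8, 11, 11, 9, 10, 10, 10]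
/-- relator -/
def r_t3 : List ℕ := [12, 12, 12]
/-- relator -/
def r_ta : List ℕ := [13, 1, 12, 0]
/-- relator -/
def r_tb : List ℕ := [13, 3, 12, 2]
/-- relator -/
def r_tc : List ℕ := [13, 5, 12, 4]
/-- relator -/
def r_td : List ℕ := [13, 7, 12, 6]
/-- relator -/
def r_te : List ℕ := [13, 9, 12, 8]
/-- relator -/
def r_st : List ℕ := [13, 10, 12, 11, 11]
/-- relator -/
def r_u2 : List ℕ := [14, 14, 5, 1]
/-- relator -/
def r_ua : List ℕ := [15, 1, 14, 0]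
/-- relator -/
def r_uc : List ℕ := [15, 5, 14, 4]
/-- relator -/
def r_ue : List ℕ := [15, 9, 14, 8]
/-- relator -/
def relA : List ℕ := [6, 8, 15, 6, 14, 6, 8, 15, 6, 14]
/-- relator -/
def r_uv : List ℕ := [15, 3, 5, 1, 2, 14, 3, 0, 4, 2, 9]
/-- relator -/
def relB : List ℕ := [7, 15, 6, 3, 5, 1, 2, 7, 14, 6, 3, 0, 4, 2, 5, 9, 7, 15, 6, 3, 5, 1, 2, 9, 15]
/-- relator -/
def r_tu : List ℕ := [15, 12, 14, 12]
/-- relator -/
def r_eus : List ℕ := [9, 11, 11, 15, 10, 10, 8, 11, 11, 14, 10, 10]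
/-- relator -/
def relC : List ℕ := [0, 4, 11, 15, 11, 15, 11, 15]
/-- relator -/
def relD : List ℕ := [0, 4, 11, 15, 10, 14, 11, 15, 10, 14, 11, 15, 10, 14, 11, 15, 10, 14]
/-- relator -/
def relF : List ℕ := [6, 11, 11, 14, 10, 10, 6, 11, 11, 14, 10, 10, 6, 11, 11, 14, 10, 10, 6, 11, 11, 14, 9, 7, 5, 6, 8, 10, 10, 10, 9, 7, 5, 6, 8, 11, 7, 5, 6, 5, 1]

/-- all relators, in the order of the definition -/
def relList : List (List ℕ) :=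
  [r_a2, r_b2, r_c2, r_d2, r_e2, r_ab3, r_ae2, r_bc3, r_bd2, r_be2, r_acd4, r_ce2, r_de3, r_bcde8, r_s7, r_sa, r_sb, r_sc, r_sd2, r_es, r_t3, r_ta, r_tb, r_tc, r_td, r_te, r_st, r_u2, r_ua, r_uc, r_ue, relA, r_uv, relB, r_tu, r_eus, relC, relD, relF]

/-- braid relation -/
def r_abn : List ℕ := [0, 2, 0, 3, 1, 3]
/-- braid relation -/
def r_bcn : List ℕ := [2, 4, 2, 5, 3, 5]

/-- the word of the conjugator `g` with `e^g = ac` -/
def wG : List ℕ := [6, 14, 6, 4, 6, 15, 2, 6, 14, 2]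
/-- the word `e^s` -/
def wE1 : List ℕ := [11, 8, 10]
/-- the word `W` -/
def wW : List ℕ := [8, 10, 8, 11]
/-- the word of `k` -/
def wK : List ℕ := [4, 6, 4, 6, 8, 6, 4, 6, 8, 11, 8, 6, 4, 6, 8, 10, 8, 11, 8, 6, 4, 6, 8, 10, 8]

end CfsgLib.ThCover66
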